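import Mathlib

/-!
# S5242: interface of the uniqueness theorem (helper800)

`L` is a finite group, `S` a Sylow `p`-subgroup, `A ≤ S` central in `L`, `|A| = p`. Everything is written inside `L`.
`h : L → L` restricted to `P` is an element of `V(P) = Hom(P/A, A)` (`IsV`). `D g P h` says `h ∈ d(g, P)`, that is: the map
`x ↦ g x g⁻¹ h(x)` on `P` is a map of the given fusion system `F`.
-/

set_option autoImplicit false

namespace Cfsg.Agent.H800.FX

universe u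

variable {L : Type u} [Group L]

/-- `h` is (on `P`) a homomorphism `P → A` trivial on `A` -/
structure IsV (A P : Subgroup L) (h : L → L) : Prop where
  mem : ∀ x ∈ P, h x ∈ A
  mul : ∀ x ∈ P, ∀ y ∈ P, h (x * y) = h x * h y
  one : ∀ a ∈ A, h a = 1

/-- `A ≤ P ≤ S` and `P/A` is centric in `L/A` (with respect to the Sylow subgroup `S/A`) -/
structure IsC (S A P : Subgroup L) : Prop where
  A_le : A ≤ P
  le_S : P ≤ S
  cent : ∀ g : L, (∀ x ∈ P, g * x * g⁻¹ ∈ S) →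
    ∀ z ∈ S, (∀ x ∈ P, z * (g * x * g⁻¹) * z⁻¹ * (g * x * g⁻¹)⁻¹ ∈ A) → g⁻¹ * z * g ∈ P

/-- `z ∈ P` and `[z, P] ≤ A`: then `f_z(x) = z x z⁻¹ x⁻¹` is an element of `K(P) ≤ V(P)` -/
def InK (A P : Subgroup L) (z : L) : Prop := z ∈ P ∧ ∀ x ∈ P, z * x * z⁻¹ * x⁻¹ ∈ A

/-- the properties of the cosets `d(g, P)` -/
structure Dsys (S A : Subgroup L) (D : L → Subgroup L → (L → L) → Prop) : Prop where
  isV : ∀ {g P h}, D g P h → IsV A P h
  A_le : ∀ {g P h}, D g P h → A ≤ P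
  le_S : ∀ {g P h}, D g P h → P ≤ S
  maps : ∀ {g P h}, D g P h → ∀ x ∈ P, g * x * g⁻¹ ∈ S
  congr : ∀ {g P h h'}, D g P h → (∀ x ∈ P, h' x = h x) → D g P h'
  ex : ∀ {g : L} {P : Subgroup L}, A ≤ P → P ≤ S → (∀ x ∈ P, g * x * g⁻¹ ∈ S) → ∃ h, D g P h
  res : ∀ {g P h P'}, D g P h → P' ≤ P → A ≤ P' → D g P' h
  comp : ∀ {g g' P h h'}, D g P h → D g' (P.map (MulAut.conj g).toMonoidHom) h' →
    D (g' * g) P (fun x => h x * h' (g * x * g⁻¹))
  inv : ∀ {g P h}, D g P h → D g⁻¹ (P.map (MulAut.conj g).toMonoidHom) (fun x => (h (g⁻¹ * x * g))⁻¹)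
  of_mem : ∀ {s P}, s ∈ S → A ≤ P → P ≤ S → D s P (fun _ => 1)
  addK : ∀ {g P h z}, D g P h → InK A P z → D g P (fun x => h x * (z * x * z⁻¹ * x⁻¹))
  coset : ∀ {g P h h'}, IsC S A P → D g P h → D g P h' →
    ∃ z, InK A P z ∧ ∀ x ∈ P, h' x = h x * (z * x * z⁻¹ * x⁻¹)

/-- `X` is fully normalized: `N_S(X)` is a Sylow `p`-subgroup of `N_L(X)` -/
def FN (S X : Subgroup L) : Prop :=
  ∀ g : L, (∀ x ∈ X, g * x * g⁻¹ ∈ S) →
    Nat.card ↥(S ⊓ Subgroup.normalizer ((X.map (MulAut.conj g).toMonoidHom : Subgroup L) : Set L)) ≤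
      Nat.card ↥(S ⊓ Subgroup.normalizer (X : Set L))

/-- (MOD) -/
def Mod (S A : Subgroup L) (D : L → Subgroup L → (L → L) → Prop) : Prop :=
  ∀ X : Subgroup L, IsC S A X → FN S X →
    ∃ v : L → L, IsV A (S ⊓ Subgroup.normalizer (X : Set L)) v ∧
      ∀ n ∈ Subgroup.normalizer (X : Set L), ∀ P : Subgroup L, X ≤ P →
        P ≤ S ⊓ Subgroup.normalizer (X : Set L) → (∀ x ∈ P, n * x * n⁻¹ ∈ S) →
        D n P (fun x => v (n * x * n⁻¹) * (v x)⁻¹)

/-- **Theorem U**, abstract form (helper480) -/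
def StU : Prop :=
  ∀ {L : Type u} [Group L] [Finite L] {p : ℕ} [Fact p.Prime] (S : Sylow p L) (A : Subgroup L),
    A ≤ (S : Subgroup L) → A ≤ Subgroup.center L → Nat.card A = p →
    ∀ D : L → Subgroup L → (L → L) → Prop, Dsys (S : Subgroup L) A D → Mod (S : Subgroup L) A D →
    ∃ v : L → L, IsV A (S : Subgroup L) v ∧
      ∀ (g : L) (P : Subgroup L), IsC (S : Subgroup L) A P → (∀ x ∈ P, g * x * g⁻¹ ∈ (S : Subgroup L)) →
        D g P (fun x => v (g * x * g⁻¹) * (v x)⁻¹)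

end Cfsg.Agent.H800.FX
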